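import Cfsg.Agent.Lib.Perm.TICent.Count
import Cfsg.Prelude.Def_LieExceptional
import Mathlib.GroupTheory.GroupAction.MultipleTransitivity
import Mathlib.GroupTheory.GroupAction.Quotient

/-!
The action on the cosets of the normaliser of an involution centraliser is a Zassenhaus group.
-/

namespace CfsgLib.TICent

open Subgroup CfsgLib.Invol MulAction

variable {G : Type*} [Group G] [Finite G] (hti : TIC G) {t : G} (ht : orderOf t = 2)
  [IsSimpleGroup G] (hna : ¬ IsMulCommutative G)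
include hti ht hna

omit hti ht hna [Finite G] [IsSimpleGroup G] in
theorem smul_base_eq_iff {x g : G} {H : Subgroup G} :
    x • ((g : G) : G ⧸ H) = (g : G ⧸ H) ↔ g⁻¹ * x * g ∈ H := by
  rw [Quotient.smul_coe, QuotientGroup.eq, smul_eq_mul, mul_inv_rev, ← inv_mem_iff]
  simp [mul_assoc]

theorem two_le_numInv : 2 ≤ numInv t := by
  obtain ⟨t', ht', hA, hne⟩ := exists_second_invol hti hna ht
  have : Nontrivial {v : G // orderOf v = 2 ∧ v ∈ cent t} :=
    ⟨⟨⟨t, ht, self_mem_cent t⟩, ⟨t', ht', hA⟩, fun h => hne (congrArg Subtype.val h).symm⟩⟩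
  exact Finite.one_lt_card

theorem not_normal_nrm : nrm t ≠ ⊤ := fun h =>
  not_normal_cent hna (invol_ne_one ht) (Subgroup.normalizer_eq_top_iff.mp h)

theorem card_nrm : Nat.card (nrm t) = Nat.card (cent t) * numInv t := by
  rw [← relIndex_cent hti ht hna]
  have := Subgroup.card_mul_index ((cent t).subgroupOf (nrm t))
  rw [Nat.card_congr (Subgroup.subgroupOfEquivOfLe
    (Subgroup.le_normalizer : cent t ≤ nrm t)).toEquiv] at this
  exact this.symm

theorem coprime_prime {p : ℕ} (hp : p.Prime) (hk : p ∣ numInv t) : ¬ p ∣ Nat.card (cent t) := by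
  intro ha
  haveI : Fact p.Prime := ⟨hp⟩
  obtain ⟨g, hg⟩ : ∃ g, g ∉ nrm t := by
    by_contra h
    push Not at h
    exact not_normal_nrm hti ht hna ((Subgroup.eq_top_iff' _).mpr h)
  obtain ⟨v, hv, hvN, -, hcard, -⟩ := exists_coset_invol hti ht hna hg
  obtain ⟨d, hd⟩ := exists_prime_orderOf_dvd_card' (G := dsub t v) p (hcard ▸ hk)
  have ht1 := invol_ne_one ht
  haveI : Group.IsNilpotent (cent t) := isCN hti t ht1
  let P0 : Sylow p (cent t) := default
  haveI hP0 : (P0 : Subgroup (cent t)).Normal :=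
    Sylow.normal_of_normalizerCondition Group.normalizerCondition_of_isNilpotent P0
  set Ap : Subgroup G := (P0 : Subgroup (cent t)).map (cent t).subtype with hApdef
  have hdN : (d : G) ∈ nrm t := (mem_dsub.mp d.2).1
  haveI hchar := P0.characteristic_of_normal hP0
  have hnorm0 : nrm t ≤ Subgroup.normalizer (Ap : Set G) := by
    intro n hn
    have hmap : ∀ n ∈ nrm t, ∀ y ∈ Ap, n * y * n⁻¹ ∈ Ap := by
      rintro n hn _ ⟨y, hy, rfl⟩
      refine ⟨(cent t).normalizerMonoidHom ⟨n, hn⟩ y, ?_, rfl⟩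
      exact (Subgroup.characteristic_iff_map_le.1 hchar
        ((cent t).normalizerMonoidHom ⟨n, hn⟩)) ⟨y, hy, rfl⟩
    exact Subgroup.mem_normalizer_iff.2 fun y =>
      ⟨hmap n hn y, fun h => by simpa [mul_assoc] using hmap n⁻¹ (inv_mem hn) _ h⟩
  have hAp : IsPGroup p Ap := P0.2.map _
  have hZ : IsPGroup p (Subgroup.zpowers (d : G)) :=
    IsPGroup.of_card (n := 1) (by rw [Nat.card_zpowers, Subgroup.orderOf_coe, hd, pow_one])
  have hsup := IsPGroup.to_sup_of_normal_right' hZ hAp ((zpowers_le.2 (hnorm0 hdN)))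
  obtain ⟨x, hx⟩ := exists_prime_orderOf_dvd_card' (G := (P0 : Subgroup (cent t))) p
    (P0.dvd_card_of_dvd_card ha)
  have hd1 : (d : G) ≠ 1 := fun h => by
    rw [← Subgroup.orderOf_coe, h, orderOf_one] at hd
    exact hp.ne_one hd.symm
  have hx1 : ((x : cent t) : G) ≠ 1 := fun h => by
    rw [← Subgroup.orderOf_coe, ← Subgroup.orderOf_coe, h, orderOf_one] at hx
    exact hp.ne_one hx.symm
  have hxS : ((x : cent t) : G) ∈ Subgroup.zpowers (d : G) ⊔ Ap :=
    Subgroup.mem_sup_right ⟨_, x.2, rfl⟩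
  have hdS : (d : G) ∈ Subgroup.zpowers (d : G) ⊔ Ap :=
    Subgroup.mem_sup_left (Subgroup.mem_zpowers _)
  haveI : Nontrivial ↥(Subgroup.zpowers (d : G) ⊔ Ap) :=
    ⟨⟨⟨_, hxS⟩, 1, fun h => hx1 (congrArg Subtype.val h)⟩⟩
  haveI := hsup.center_nontrivial
  obtain ⟨⟨z, hz⟩, hz1⟩ := exists_ne (1 : Subgroup.center ↥(Subgroup.zpowers (d : G) ⊔ Ap))
  have hzc : ∀ s : ↥(Subgroup.zpowers (d : G) ⊔ Ap), Commute (s : G) (z : G) := fun s =>
    congrArg Subtype.val (Subgroup.mem_center_iff.mp hz s)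
  have hzne : (z : G) ≠ 1 := fun h => hz1 (Subtype.ext (Subtype.ext h))
  have hzt : (z : G) ∈ cent t :=
    cent_le hti hna ht hx1 (x : cent t).2 (mem_cent.mpr (hzc ⟨_, hxS⟩).symm)
  exact hd1 (dsub_inf_cent hti ht hna hv hvN d.2
    (cent_le hti hna ht hzne hzt (mem_cent.mpr (hzc ⟨d, hdS⟩))))

/-- A nontrivial element of `nrm t` fixes at most one further coset. -/
theorem two_fixed {v w d : G} (hv : v ∉ nrm t) (hw : w ∉ nrm t) (hd : d ∈ nrm t) (hd1 : d ≠ 1)
    (h1 : d • (v : G ⧸ nrm t) = v) (h2 : d • (w : G ⧸ nrm t) = w) :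
    (v : G ⧸ nrm t) = w := by
  obtain ⟨v', hv', hvN, hvv, -, hvinv⟩ := exists_coset_invol hti ht hna hv
  obtain ⟨w', hw', hwN, hww, -, hwinv⟩ := exists_coset_invol hti ht hna hw
  rw [← QuotientGroup.eq.mpr hvv] at h1 ⊢
  rw [← QuotientGroup.eq.mpr hww] at h2 ⊢
  rw [smul_base_eq_iff, invol_inv hv'] at h1
  rw [smul_base_eq_iff, invol_inv hw'] at h2
  have hdv : d ∈ dsub t v' := mem_dsub.mpr ⟨hd, by rw [invol_inv hv']; exact h1⟩
  have hdw : d ∈ dsub t w' := mem_dsub.mpr ⟨hd, by rw [invol_inv hw']; exact h2⟩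
  have hdA : d ∉ cent t := fun h => hd1 (dsub_inf_cent hti ht hna hv' hvN hdv h)
  have hc : Commute (v' * w') d := by
    have e1 := mul_inv_eq_iff_eq_mul.mp (hwinv d hdw)
    have e2 : v' * d⁻¹ * v'⁻¹ = d := by
      rw [show v' * d⁻¹ * v'⁻¹ = (v' * d * v'⁻¹)⁻¹ by group, hvinv d hdv, inv_inv]
    show v' * w' * d = d * (v' * w')
    rw [mul_assoc, e1, ← mul_assoc, mul_inv_eq_iff_eq_mul.mp e2, mul_assoc]
  have := mem_nrm_of_commute hti ht hna hd hd1 hdA hc
  rw [QuotientGroup.eq, invol_inv hv']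
  exact this

theorem exists_nrm_move {v w : G} (hv : v ∉ nrm t) (hw : w ∉ nrm t) :
    ∃ n ∈ nrm t, n • (w : G ⧸ nrm t) = v := by
  obtain ⟨v', hv', hvN, hvv, hcv, -⟩ := exists_coset_invol hti ht hna hv
  obtain ⟨w', hw', hwN, hww, hcw, -⟩ := exists_coset_invol hti ht hna hw
  rw [← QuotientGroup.eq.mpr hvv, ← QuotientGroup.eq.mpr hww]
  have hk := two_le_numInv hti ht hna
  obtain ⟨p, hp, hpk⟩ := Nat.exists_prime_and_dvd (n := numInv t) (by omega)
  haveI : Fact p.Prime := ⟨hp⟩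
  obtain ⟨d, hd⟩ := exists_prime_orderOf_dvd_card' (G := dsub t w') p (hcw ▸ hpk)
  obtain ⟨P⟩ := (inferInstance : Nonempty (Sylow p (dsub t v')))
  have hPle : (P : Subgroup (dsub t v')).map (dsub t v').subtype ≤ nrm t := fun x hx =>
    (mem_dsub.mp (Subgroup.map_subtype_le _ hx)).1
  have hPc : Nat.card (((P : Subgroup (dsub t v')).map (dsub t v').subtype).subgroupOf (nrm t)) =
      p ^ (Nat.card (nrm t)).factorization p := by
    rw [Nat.card_congr (Subgroup.subgroupOfEquivOfLe hPle).toEquiv,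
      Subgroup.card_map_of_injective (dsub t v').subtype_injective, P.card_eq_multiplicity, hcv,
      card_nrm hti ht hna, Nat.factorization_mul Nat.card_pos.ne' (by omega), Finsupp.add_apply,
      Nat.factorization_eq_zero_of_not_dvd (coprime_prime hti ht hna hp hpk), zero_add]
  let P1 : Sylow p (nrm t) := Sylow.ofCard _ hPc
  have hdN : (d : G) ∈ nrm t := (mem_dsub.mp d.2).1
  have hd1 : (d : G) ≠ 1 := fun h => by
    rw [← Subgroup.orderOf_coe, h, orderOf_one] at hd
    exact hp.ne_one hd.symm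
  obtain ⟨Q, hQ⟩ := (IsPGroup.of_card (n := 1) (by
    rw [Nat.card_zpowers, Subgroup.orderOf_mk, Subgroup.orderOf_coe, hd, pow_one]) :
    IsPGroup p (Subgroup.zpowers (⟨d, hdN⟩ : nrm t))).exists_le_sylow
  obtain ⟨n, hn⟩ := MulAction.exists_smul_eq (nrm t) Q P1
  have hmem : n * (⟨d, hdN⟩ : nrm t) * n⁻¹ ∈ (P1 : Subgroup (nrm t)) := by
    rw [← hn, Sylow.coe_subgroup_smul]
    exact ⟨_, hQ (Subgroup.mem_zpowers _), rfl⟩
  have hmem' : (n : G) * d * (n : G)⁻¹ ∈ dsub t v' :=
    Subgroup.map_subtype_le _ (Subgroup.mem_subgroupOf.mp hmem)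
  refine ⟨n, n.2, ?_⟩
  have hne : ((n : G) * w') ∉ nrm t := fun h => hwN ((Subgroup.mul_mem_cancel_left _ n.2).mp h)
  rw [MulAction.Quotient.smul_coe, smul_eq_mul]
  refine two_fixed hti ht hna hne hvN (mul_mem (mul_mem n.2 hdN) (inv_mem n.2))
    (by simpa using hd1) ?_ ?_
  · rw [smul_base_eq_iff]
    have := (mem_dsub.mp d.2).2
    rw [invol_inv hw'] at this
    simpa [mul_assoc, invol_inv hw'] using this
  · rw [smul_base_eq_iff]
    have := (mem_dsub.mp hmem').2
    rw [invol_inv hv'] at this ⊢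
    exact this

theorem card_stab_pair {v : G} (hv : v ∉ nrm t) :
    Nat.card ↥(stabilizer G ((1 : G) : G ⧸ nrm t) ⊓ stabilizer G (v : G ⧸ nrm t)) = numInv t := by
  obtain ⟨v', hv', hvN, hvv, hcv, -⟩ := exists_coset_invol hti ht hna hv
  rw [← QuotientGroup.eq.mpr hvv, ← hcv]
  congr 1
  have e : stabilizer G ((1 : G) : G ⧸ nrm t) ⊓ stabilizer G (v' : G ⧸ nrm t) = dsub t v' := by
    ext x
    rw [Subgroup.mem_inf, mem_stabilizer_iff, mem_stabilizer_iff, smul_base_eq_iff,
      smul_base_eq_iff, mem_dsub, invol_inv hv', inv_one, one_mul, mul_one]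
  rw [e]

/-- The centraliser is regular on the cosets other than the base one. -/
theorem exists_unique_cent {v w : G} (hv : v ∉ nrm t) (hw : w ∉ nrm t) :
    ∃! u : cent t, (u : G) • (v : G ⧸ nrm t) = w := by
  obtain ⟨v', hv', hvN, hvv, hcv, -⟩ := exists_coset_invol hti ht hna hv
  rw [← QuotientGroup.eq.mpr hvv]
  have hcancel : ∀ u u' : cent t,
      (u : G) • (v' : G ⧸ nrm t) = (u' : G) • (v' : G ⧸ nrm t) → u = u' := by
    intro u u' h
    have h' : ((u' : G)⁻¹ * u) • (v' : G ⧸ nrm t) = v' := by rw [mul_smul, h, inv_smul_smul]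
    rw [smul_base_eq_iff, invol_inv hv'] at h'
    have hm : (u' : G)⁻¹ * u ∈ cent t := mul_mem (inv_mem u'.2) u.2
    have := dsub_inf_cent hti ht hna hv' hvN
      (mem_dsub.mpr ⟨Subgroup.le_normalizer hm, by rw [invol_inv hv']; exact h'⟩) hm
    exact Subtype.ext (inv_mul_eq_one.mp this).symm
  let f : cent t × dsub t v' → nrm t := fun q => ⟨(q.1 : G) * q.2,
    mul_mem (Subgroup.le_normalizer q.1.2) (mem_dsub.mp q.2.2).1⟩
  have hfix : ∀ x : dsub t v', (x : G) • (v' : G ⧸ nrm t) = v' := fun x => by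
    rw [smul_base_eq_iff]
    have := (mem_dsub.mp x.2).2
    rw [invol_inv hv'] at this ⊢
    exact this
  have hf : Function.Injective f := by
    rintro ⟨a, x⟩ ⟨b, y⟩ h
    have h' : (a : G) * x = (b : G) * y := congrArg Subtype.val h
    have hab : a = b := by
      refine hcancel a b ?_
      calc (a : G) • (v' : G ⧸ nrm t) = ((a : G) * x) • (v' : G ⧸ nrm t) := by rw [mul_smul, hfix]
        _ = (b : G) • (v' : G ⧸ nrm t) := by rw [h', mul_smul, hfix]
    subst hab
    rw [Subtype.ext (mul_left_cancel h')]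
  have hfb : Function.Bijective f :=
    (Nat.bijective_iff_injective_and_card _).mpr
      ⟨hf, by rw [Nat.card_prod, hcv, card_nrm hti ht hna]⟩
  obtain ⟨n, hn, hnw⟩ := exists_nrm_move hti ht hna hw hvN
  obtain ⟨⟨a, x⟩, hax⟩ := hfb.surjective ⟨n, hn⟩
  have hax' : (a : G) * x = n := congrArg Subtype.val hax
  have ha : (a : G) • (v' : G ⧸ nrm t) = w := by
    rw [← hnw, ← hax', mul_smul, hfix]
  exact ⟨a, ha, fun b hb => hcancel b a (hb.trans ha.symm)⟩

/-- The coset action is a Zassenhaus group. -/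
theorem isZassenhaus : Cfsg.IsZassenhausGroup G (G ⧸ nrm t) := by
  have hbase : ∀ x : G ⧸ nrm t, x ≠ ((1 : G) : G ⧸ nrm t) →
      ∃ g : G, g ∉ nrm t ∧ x = (g : G ⧸ nrm t) := by
    intro x hx
    obtain ⟨g, rfl⟩ := QuotientGroup.mk_surjective x
    refine ⟨g, fun h => hx ?_, rfl⟩
    rw [QuotientGroup.eq, mul_one]
    exact inv_mem h
  have hstab : ∀ n ∈ nrm t, n • ((1 : G) : G ⧸ nrm t) = ((1 : G) : G ⧸ nrm t) := fun n hn => by
    rw [smul_base_eq_iff]; simpa using hn
  have hfaith : FaithfulSMul G (G ⧸ nrm t) := by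
    constructor
    intro a b h
    by_contra hab
    have hker : a⁻¹ * b ∈ (MulAction.toPermHom G (G ⧸ nrm t)).ker := by
      rw [MonoidHom.mem_ker]
      ext x
      show (a⁻¹ * b) • x = x
      rw [mul_smul, ← h x, inv_smul_smul]
    rcases (MonoidHom.normal_ker (MulAction.toPermHom G (G ⧸ nrm t))).eq_bot_or_eq_top with h1 | h1
    · rw [h1, Subgroup.mem_bot, inv_mul_eq_one] at hker
      exact hab hker
    · apply not_normal_nrm hti ht hna
      rw [Subgroup.eq_top_iff']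
      intro g
      have hg : g ∈ (MulAction.toPermHom G (G ⧸ nrm t)).ker := h1 ▸ Subgroup.mem_top g
      have hg1 : g • ((1 : G) : G ⧸ nrm t) = ((1 : G) : G ⧸ nrm t) :=
        congrArg (fun σ : Equiv.Perm (G ⧸ nrm t) => σ ((1 : G) : G ⧸ nrm t))
          (MonoidHom.mem_ker.mp hg)
      rw [smul_base_eq_iff] at hg1
      simpa using hg1
  refine ⟨hfaith, ?_, ?_, ?_, ?_⟩
  · rw [MulAction.is_two_pretransitive_iff]
    intro a b c d hab hcd
    obtain ⟨g, hg⟩ := MulAction.exists_smul_eq G a ((1 : G) : G ⧸ nrm t)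
    obtain ⟨h, hh⟩ := MulAction.exists_smul_eq G c ((1 : G) : G ⧸ nrm t)
    obtain ⟨v, hv, hv'⟩ := hbase (g • b)
      (fun e => hab (MulAction.injective g (hg.trans e.symm)))
    obtain ⟨w, hw, hw'⟩ := hbase (h • d)
      (fun e => hcd (MulAction.injective h (hh.trans e.symm)))
    obtain ⟨n, hn, hnm⟩ := exists_nrm_move hti ht hna hw hv
    refine ⟨h⁻¹ * n * g, ?_, ?_⟩
    · rw [mul_smul, mul_smul, hg, hstab n hn, ← hh, inv_smul_smul]
    · rw [mul_smul, mul_smul, hv', hnm, ← hw', inv_smul_smul]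
  · intro g a b c hab hbc hac ha hb hc
    by_contra hg1
    obtain ⟨s, hs⟩ := MulAction.exists_smul_eq G a ((1 : G) : G ⧸ nrm t)
    obtain ⟨v, hv, hv'⟩ := hbase (s • b) (fun e => hab (MulAction.injective s (hs.trans e.symm)))
    obtain ⟨w, hw, hw'⟩ := hbase (s • c) (fun e => hac (MulAction.injective s (hs.trans e.symm)))
    have hfixes : ∀ x : G ⧸ nrm t, g • x = x → (s * g * s⁻¹) • s • x = s • x := fun x hx => by
      rw [← mul_smul, inv_mul_cancel_right, mul_smul, hx]
    have h0 := hfixes a ha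
    rw [hs, smul_base_eq_iff, inv_one, one_mul, mul_one] at h0
    have h1 := hfixes b hb
    have h2 := hfixes c hc
    rw [hv'] at h1
    rw [hw'] at h2
    refine hbc (MulAction.injective s ?_)
    show s • b = s • c
    rw [hv', hw']
    exact two_fixed hti ht hna hv hw h0 (by simpa using hg1) h1 h2
  · obtain ⟨g, hg⟩ : ∃ g, g ∉ nrm t := by
      by_contra h
      push Not at h
      exact not_normal_nrm hti ht hna ((Subgroup.eq_top_iff' _).mpr h)
    haveI : Nontrivial ↥(stabilizer G ((1 : G) : G ⧸ nrm t) ⊓ stabilizer G (g : G ⧸ nrm t)) := by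
      rw [← Finite.one_lt_card_iff_nontrivial, card_stab_pair hti ht hna hg]
      have := two_le_numInv hti ht hna
      omega
    obtain ⟨⟨d, hd⟩, hd1⟩ :=
      exists_ne (1 : ↥(stabilizer G ((1 : G) : G ⧸ nrm t) ⊓ stabilizer G (g : G ⧸ nrm t)))
    refine ⟨d, fun h => hd1 (Subtype.ext h), ((1 : G) : G ⧸ nrm t), (g : G ⧸ nrm t), ?_,
      (Subgroup.mem_inf.mp hd).1, (Subgroup.mem_inf.mp hd).2⟩
    rw [Ne, QuotientGroup.eq, inv_one, one_mul]
    exact hg
  · intro M hM hMt
    rcases hM.eq_bot_or_eq_top with h | h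
    · subst h
      obtain ⟨g, hg⟩ : ∃ g, g ∉ nrm t := by
        by_contra h
        push Not at h
        exact not_normal_nrm hti ht hna ((Subgroup.eq_top_iff' _).mpr h)
      obtain ⟨⟨m, hm⟩, hm'⟩ := hMt.exists_smul_eq
        ((1 : G) : G ⧸ nrm t) (g : G ⧸ nrm t)
      rw [Subgroup.mem_bot] at hm
      subst hm
      change (1 : G) • ((1 : G) : G ⧸ nrm t) = (g : G ⧸ nrm t) at hm'
      rw [one_smul, QuotientGroup.eq, inv_one, one_mul] at hm'
      exact absurd hm' hg
    · subst h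
      refine ⟨((1 : G) : G ⧸ nrm t), fun e => ?_⟩
      have hmem : (⟨t, Subgroup.mem_top t⟩ : (⊤ : Subgroup G)) ∈
          stabilizer (⊤ : Subgroup G) ((1 : G) : G ⧸ nrm t) :=
        hstab t (Subgroup.le_normalizer (self_mem_cent t))
      replace hmem := Subgroup.mem_bot.mp (e.le hmem)
      exact invol_ne_one ht (congrArg Subtype.val hmem)

theorem card_eq_prod :
    Nat.card G = (Nat.card (cent t) + 1) * (Nat.card (cent t) * numInv t) := by
  classical
  obtain ⟨g, hg⟩ : ∃ g, g ∉ nrm t := by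
    by_contra h
    push Not at h
    exact not_normal_nrm hti ht hna ((Subgroup.eq_top_iff' _).mpr h)
  haveI : Fintype (G ⧸ nrm t) := Fintype.ofFinite _
  have hidx : (nrm t).index = Nat.card (cent t) + 1 := by
    have hne : ∀ u : cent t, (u : G) • (g : G ⧸ nrm t) ≠ ((1 : G) : G ⧸ nrm t) := by
      intro u e
      rw [MulAction.Quotient.smul_coe, smul_eq_mul, QuotientGroup.eq, mul_one, inv_mem_iff,
        Subgroup.mul_mem_cancel_left _ (Subgroup.le_normalizer u.2)] at e
      exact hg e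
    have hb : Function.Bijective (fun u : cent t =>
        (⟨(u : G) • (g : G ⧸ nrm t), hne u⟩ : {x : G ⧸ nrm t // x ≠ ((1 : G) : G ⧸ nrm t)})) := by
      have hbase : ∀ x : G ⧸ nrm t, x ≠ ((1 : G) : G ⧸ nrm t) →
          ∃ w : G, w ∉ nrm t ∧ x = (w : G ⧸ nrm t) := by
        intro x hx
        obtain ⟨w, rfl⟩ := QuotientGroup.mk_surjective x
        refine ⟨w, fun h => hx ?_, rfl⟩
        rw [QuotientGroup.eq, mul_one]
        exact inv_mem h
      constructor
      · intro a b h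
        obtain ⟨w, hw, hw'⟩ := hbase _ (hne a)
        exact (exists_unique_cent hti ht hna hg hw).unique hw'
          ((congrArg Subtype.val h).symm.trans hw')
      · rintro ⟨x, hx⟩
        obtain ⟨w, hw, rfl⟩ := hbase x hx
        obtain ⟨u, hu, -⟩ := exists_unique_cent hti ht hna hg hw
        exact ⟨u, Subtype.ext hu⟩
    rw [Nat.card_eq_of_bijective _ hb, Subgroup.index, Nat.card_eq_fintype_card,
      Nat.card_eq_fintype_card, Fintype.card_subtype_compl, Fintype.card_subtype_eq]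
    have : 1 ≤ Fintype.card (G ⧸ nrm t) := Fintype.card_pos
    omega
  rw [← Subgroup.card_mul_index (nrm t), hidx, card_nrm hti ht hna, mul_comm]

end CfsgLib.TICent
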