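import Cfsg.Agent.Lib.Invol.Basic
import Cfsg.Agent.Lib.Char.CNOdd
import Cfsg.Agent.Lib.Coprime.Fitting
import Cfsg.Agent.Lib.Coprime.Frobenius
import Cfsg.Prelude.Def_LieExceptional
import Cfsg.Prelude.Def_OddOrderLocal
import Mathlib.GroupTheory.Subgroup.Simple

/-!
Finite groups all of whose element centralisers are TI subsets: nilpotency criteria, and the
structure of involution centralisers in the simple case.
-/

set_option autoImplicit false
set_option linter.style.haveILetI false

namespace CfsgLib.TICent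

open Subgroup

variable {G : Type*} [Group G]

/-- All element centralisers are TI subsets. -/
def TIC (G : Type*) [Group G] : Prop :=
  ∀ x : G, Cfsg.IsTISubset (Subgroup.centralizer ({x} : Set G) : Set G)

/-- The centraliser of an element. -/
abbrev cent (x : G) : Subgroup G := Subgroup.centralizer ({x} : Set G)

theorem mem_cent {g x : G} : g ∈ cent x ↔ Commute g x := Subgroup.mem_centralizer_singleton_iff

theorem self_mem_cent (x : G) : x ∈ cent x := mem_cent.mpr (Commute.refl x)

theorem mem_cent_conj {g h x : G} : h ∈ cent (g * x * g⁻¹) ↔ g⁻¹ * h * g ∈ cent x := by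
  rw [mem_cent, mem_cent]
  constructor
  · intro hc
    have := hc.map (MulAut.conj g⁻¹).toMonoidHom
    simpa [mul_assoc] using this
  · intro hc
    have := hc.map (MulAut.conj g).toMonoidHom
    simpa [mul_assoc] using this

theorem cent_conj_eq_map (g x : G) :
    cent (g * x * g⁻¹) = (cent x).map (MulAut.conj g).toMonoidHom := by
  ext h
  rw [mem_cent_conj, Subgroup.mem_map]
  constructor
  · intro hh
    exact ⟨_, hh, by simp [mul_assoc]⟩
  · rintro ⟨y, hy, rfl⟩
    simpa [mul_assoc] using hy

theorem mem_nrm_of_conj (hti : TIC G) {a x g : G} (hx1 : x ≠ 1) (hx : x ∈ cent a)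
    (h : g * x * g⁻¹ ∈ cent a) : g ∈ Subgroup.normalizer ((cent a : Subgroup G) : Set G) := by
  by_contra hg
  exact hx1 (hti a g hg x hx h)

theorem tic_subgroup (hti : TIC G) (H : Subgroup G) : TIC H := by
  intro x g hg y hy hgy
  by_contra hy1
  have hmem : ∀ u : H, u ∈ Subgroup.centralizer ({x} : Set H) ↔ (u : G) ∈ cent (x : G) := by
    intro u
    rw [mem_centralizer_singleton_iff, mem_centralizer_singleton_iff]
    exact ⟨fun e => congrArg Subtype.val e, fun e => Subtype.ext e⟩
  have hgN := mem_nrm_of_conj hti (a := (x : G)) (fun e => hy1 (Subtype.ext e))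
    ((hmem y).1 hy) (g := (g : G)) ((hmem _).1 hgy)
  apply hg
  rw [Subgroup.mem_normalizer_iff]
  intro u
  rw [hmem, hmem]
  exact (Subgroup.mem_normalizer_iff.1 hgN (u : G))

theorem normal_cent_of_central (hti : TIC G) {z : G} (hz1 : z ≠ 1) (hzc : ∀ g : G, Commute g z)
    (x : G) : (cent x).Normal := by
  refine ⟨fun n hn g => ?_⟩
  have hg := mem_nrm_of_conj hti (a := x) hz1 (mem_cent.2 (hzc x).symm) (g := g)
    (by rw [(hzc g).eq, mul_inv_cancel_right]; exact mem_cent.2 (hzc x).symm)
  exact (Subgroup.mem_normalizer_iff.1 hg n).1 hn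

theorem isNilpotent_of_normal_cent [Finite G] (h : ∀ x : G, (cent x).Normal) :
    Group.IsNilpotent G := by
  have hmem : ∀ x : G, x ∈ Cfsg.fittingSubgroup G := by
    intro x
    haveI := h x
    have hA : ∀ g : G, Commute (g * x * g⁻¹) x := fun g =>
      mem_cent.1 ((h x).conj_mem x (self_mem_cent x) g)
    have hle : Subgroup.normalClosure ({x} : Set G) ≤
        Subgroup.centralizer (Subgroup.normalClosure ({x} : Set G) : Set G) := by
      have h1 : Subgroup.normalClosure ({x} : Set G) ≤ cent x :=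
        Subgroup.normalClosure_le_normal (Set.singleton_subset_iff.2 (self_mem_cent x))
      haveI := Subgroup.normal_centralizer (H := Subgroup.normalClosure ({x} : Set G))
      refine Subgroup.normalClosure_le_normal (Set.singleton_subset_iff.2 ?_)
      exact Subgroup.mem_centralizer_iff.2 fun a ha => mem_cent.1 (h1 ha)
    letI : CommGroup (Subgroup.normalClosure ({x} : Set G)) :=
      { mul_comm := fun a b => Subtype.ext (Subgroup.mem_centralizer_iff.1 (hle b.2) a a.2) }
    have hnil : Group.IsNilpotent (Subgroup.normalClosure ({x} : Set G)) := CommGroup.isNilpotent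
    exact CfsgLib.Coprime.le_fitting hnil (Subgroup.subset_normalClosure (Set.mem_singleton x))
  haveI := CfsgLib.Coprime.fitting_isNilpotent (G := G)
  have htop : Cfsg.fittingSubgroup G = ⊤ := (Subgroup.eq_top_iff' _).2 hmem
  exact Group.nilpotent_of_mulEquiv ((MulEquiv.subgroupCongr htop).trans Subgroup.topEquiv)

theorem isNilpotent_of_central [Finite G] (hti : TIC G) {z : G} (hz1 : z ≠ 1)
    (hzc : ∀ g : G, Commute g z) : Group.IsNilpotent G :=
  isNilpotent_of_normal_cent (normal_cent_of_central hti hz1 hzc)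

theorem isCN [Finite G] (hti : TIC G) : Cfsg.IsCNGroup G := by
  intro x hx
  refine isNilpotent_of_central (tic_subgroup hti (cent x)) (z := ⟨x, self_mem_cent x⟩)
    (fun e => hx (congrArg Subtype.val e)) fun g => Subtype.ext (mem_cent.1 g.2).eq

theorem mem_of_pow_coprime {H : Subgroup G} {c : G} {a b : ℕ} (hab : a.Coprime b)
    (ha : c ^ a ∈ H) (hb : c ^ b ∈ H) : c ∈ H := by
  have e : c = (c ^ a) ^ (a.gcdA b) * (c ^ b) ^ (a.gcdB b) := by
    rw [← zpow_natCast c a, ← zpow_natCast c b, ← zpow_mul, ← zpow_mul, ← zpow_add]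
    have := Nat.gcd_eq_gcd_ab a b
    rw [hab] at this
    rw [← this, Nat.cast_one, zpow_one]
  rw [e]
  exact mul_mem (H.zpow_mem ha _) (H.zpow_mem hb _)

theorem commute_invol [Finite G] (hti : TIC G) {k a t : G} (hk : k ≠ 1) (hak : Commute a k)
    (htk : Commute t k) (ht : orderOf t = 2) (ha : Odd (orderOf a)) : Commute a t := by
  haveI : Fact (Nat.Prime 2) := ⟨Nat.prime_two⟩
  exact CfsgLib.Char.cn_commute (isCN hti) hk hak.eq htk.eq (Nat.coprime_two_right.2 ha)
    (IsPGroup.of_card (n := 1) (by rw [Nat.card_zpowers, ht, pow_one]))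

/-- An involution centraliser of odd index contains the centralisers of its elements. -/
theorem cent_le_of_odd_index [Finite G] (hti : TIC G) {t x : G} (ht : orderOf t = 2)
    (hidx : Odd (cent t).index) (hx1 : x ≠ 1) (hx : x ∈ cent t) : cent x ≤ cent t := by
  intro c hc
  have hc' : Commute c x := mem_cent.1 hc
  have hcN : c ∈ Subgroup.normalizer ((cent t : Subgroup G) : Set G) :=
    mem_nrm_of_conj hti hx1 hx (by rw [hc'.eq, mul_inv_cancel_right]; exact hx)
  obtain ⟨i, m, hm, he⟩ := Nat.exists_eq_two_pow_mul_odd (orderOf_pos c).ne'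
  refine mem_of_pow_coprime (Nat.Coprime.pow_left i (Nat.coprime_two_left.2 hm)) ?_ ?_
  · -- the odd part
    refine mem_cent.2 (commute_invol hti hx1 (hc'.pow_left _) (mem_cent.1 hx).symm ht ?_)
    rw [orderOf_pow, he, Nat.gcd_eq_right (dvd_mul_right _ _),
      Nat.mul_div_cancel_left _ (by positivity)]
    exact hm
  · -- the 2-part
    set N := Subgroup.normalizer ((cent t : Subgroup G) : Set G)
    haveI hn : ((cent t).subgroupOf N).Normal := Subgroup.normal_in_normalizer
    have h1 : c ^ ((cent t).relIndex N) ∈ cent t :=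
      Subgroup.mem_subgroupOf.1 (Subgroup.pow_index_mem ((cent t).subgroupOf N) ⟨c, hcN⟩)
    have hodd : Odd ((cent t).relIndex N) :=
      hidx.of_dvd_nat (Subgroup.relIndex_dvd_index_of_le Subgroup.le_normalizer)
    refine mem_of_pow_coprime (a := 2 ^ i) (b := (cent t).relIndex N)
      (Nat.Coprime.pow_left i (Nat.coprime_two_left.2 hodd)) ?_ ?_
    · rw [← pow_mul, mul_comm, ← he, pow_orderOf_eq_one]
      exact one_mem _
    · rw [← pow_mul, mul_comm, pow_mul]
      exact pow_mem h1 _

theorem exists_invol_odd_index [Finite G] (h2 : 2 ∣ Nat.card G) :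
    ∃ t : G, orderOf t = 2 ∧ Odd (cent t).index := by
  haveI : Fact (Nat.Prime 2) := ⟨Nat.prime_two⟩
  obtain ⟨S⟩ := (inferInstance : Nonempty (Sylow 2 G))
  haveI : Nontrivial (S : Subgroup G) := by
    rw [← Finite.one_lt_card_iff_nontrivial]
    exact Nat.one_lt_two.trans_le (Nat.le_of_dvd Nat.card_pos (S.dvd_card_of_dvd_card h2))
  haveI := S.2.center_nontrivial
  have h2c : 2 ∣ Nat.card (Subgroup.center (S : Subgroup G)) := by
    obtain ⟨n, hn, h⟩ := (S.2.to_subgroup _).nontrivial_iff_card.1 S.2.center_nontrivial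
    rw [h]
    exact dvd_pow_self 2 hn.ne'
  obtain ⟨z, hz⟩ := exists_prime_orderOf_dvd_card' (G := Subgroup.center (S : Subgroup G)) 2 h2c
  refine ⟨((z : (S : Subgroup G)) : G), by rw [Subgroup.orderOf_coe, Subgroup.orderOf_coe, hz], ?_⟩
  have hle : (S : Subgroup G) ≤ cent (((z : (S : Subgroup G)) : G)) := fun s hs =>
    mem_cent.2 (congrArg Subtype.val (Subgroup.mem_center_iff.1 z.2 ⟨s, hs⟩))
  rw [Nat.odd_iff, ← Nat.two_dvd_ne_zero]
  exact fun h => S.not_dvd_index (h.trans (Subgroup.index_dvd_of_le hle))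

section Simple

variable [Finite G] [IsSimpleGroup G] (hti : TIC G) (hna : ¬ IsMulCommutative G)
include hti hna

omit hti in
theorem eq_one_of_central {z : G} (hz : ∀ g : G, Commute g z) : z = 1 := by
  by_contra hz1
  rcases (inferInstance : (Subgroup.center G).Normal).eq_bot_or_eq_top with h | h
  · exact hz1 (Subgroup.mem_bot.1 (h ▸ Subgroup.mem_center_iff.2 fun g => (hz g).eq))
  · exact hna ⟨⟨fun a b => Subgroup.mem_center_iff.1 (h ▸ Subgroup.mem_top b) a⟩⟩

omit hti in
theorem not_normal_cent {x : G} (hx : x ≠ 1) : ¬ (cent x).Normal := by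
  intro hn
  rcases hn.eq_bot_or_eq_top with h | h
  · exact hx (Subgroup.mem_bot.1 (h ▸ self_mem_cent x))
  · exact hx (eq_one_of_central hna fun g => mem_cent.1 (h ▸ Subgroup.mem_top g))

theorem exists_invol : ∃ t : G, orderOf t = 2 := by
  haveI : Fact (Nat.Prime 2) := ⟨Nat.prime_two⟩
  by_contra h
  push Not at h
  have hodd : Odd (Nat.card G) := by
    rw [Nat.odd_iff, ← Nat.two_dvd_ne_zero]
    intro h2
    obtain ⟨t, ht⟩ := exists_prime_orderOf_dvd_card' (G := G) 2 h2
    exact h t ht
  have hsol := CfsgLib.Char.isSolvable_of_cn_odd hodd (isCN hti)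
  exact hna ⟨⟨fun a b => IsSimpleGroup.comm_iff_isSolvable.mpr hsol a b⟩⟩

theorem isConj_of_odd_index {z t : G} (hz : orderOf z = 2) (hidx : Odd (cent z).index)
    (ht : orderOf t = 2) : IsConj z t := by
  by_contra hne
  have h1 : ∀ g : G, g * t * g⁻¹ ∈ cent z := by
    intro g
    have hv := CfsgLib.Invol.invol_conj ht g
    have heven : Even (orderOf (z * (g * t * g⁻¹))) := by
      rcases Nat.even_or_odd (orderOf (z * (g * t * g⁻¹))) with he | ho
      · exact he
      · exact absurd ((CfsgLib.Invol.isConj_of_odd hz hv ho).trans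
          (isConj_iff.mpr ⟨g⁻¹, by group⟩)) hne
    have hw1 := CfsgLib.Invol.invol_ne_one (CfsgLib.Invol.orderOf_pow_half heven)
    refine cent_le_of_odd_index hti hz hidx hw1
      (mem_cent.2 (CfsgLib.Invol.commute_pow_half (CfsgLib.Invol.invol_conj_mul hz hv) heven).symm.symm)
      (mem_cent.2 (CfsgLib.Invol.commute_pow_half (CfsgLib.Invol.invol_conj_mul' hz hv) heven).symm)
  have hle : Subgroup.normalClosure ({t} : Set G) ≤ cent z := by
    rw [Subgroup.normalClosure, Subgroup.closure_le]
    intro x hx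
    obtain ⟨a, ha, hax⟩ := Group.mem_conjugatesOfSet_iff.mp hx
    obtain ⟨g, rfl⟩ := isConj_iff.mp hax
    rw [Set.mem_singleton_iff.mp ha]
    exact h1 g
  rcases (Subgroup.normalClosure_normal (s := ({t} : Set G))).eq_bot_or_eq_top with h | h
  · exact CfsgLib.Invol.invol_ne_one ht
      (Subgroup.mem_bot.mp (h ▸ Subgroup.subset_normalClosure (Set.mem_singleton t)))
  · rw [h] at hle
    exact CfsgLib.Invol.invol_ne_one hz (eq_one_of_central hna fun g => mem_cent.1 (hle (mem_top g)))

theorem odd_index_cent {t : G} (ht : orderOf t = 2) : Odd (cent t).index := by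
  obtain ⟨z, hz, hidx⟩ := exists_invol_odd_index (G := G) (ht ▸ orderOf_dvd_natCard t)
  obtain ⟨g, rfl⟩ := isConj_iff.mp (isConj_of_odd_index hti hna hz hidx ht)
  rw [cent_conj_eq_map]
  exact (Subgroup.index_map_equiv (cent z) (MulAut.conj g)).symm ▸ hidx

theorem isConj_invol {t v : G} (ht : orderOf t = 2) (hv : orderOf v = 2) : IsConj t v :=
  isConj_of_odd_index hti hna ht (odd_index_cent hti hna ht) hv

theorem cent_le {t x : G} (ht : orderOf t = 2) (hx1 : x ≠ 1) (hx : x ∈ cent t) :
    cent x ≤ cent t :=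
  cent_le_of_odd_index hti ht (odd_index_cent hti hna ht) hx1 hx

theorem cent_eq {t v : G} (ht : orderOf t = 2) (hv : orderOf v = 2) (h : v ∈ cent t) :
    cent v = cent t :=
  le_antisymm (cent_le hti hna ht (CfsgLib.Invol.invol_ne_one hv) h)
    (cent_le hti hna hv (CfsgLib.Invol.invol_ne_one ht) (mem_cent.2 (mem_cent.1 h).symm))

/-- The involutions of an involution centraliser are central in it. -/
theorem invol_commute {t v x : G} (ht : orderOf t = 2) (hv : orderOf v = 2) (h : v ∈ cent t)
    (hx : x ∈ cent t) : Commute x v :=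
  mem_cent.1 (by rw [cent_eq hti hna ht hv h]; exact hx)

theorem mem_normalizer_cent_iff {x g : G} (hx : x ≠ 1) :
    g ∈ Subgroup.normalizer ((cent x : Subgroup G) : Set G) ↔ g * x * g⁻¹ ∈ cent x :=
  ⟨fun h => (Subgroup.mem_normalizer_iff.mp h x).mp (self_mem_cent x),
    fun h => mem_nrm_of_conj hti hx (self_mem_cent x) h⟩

/-- An involution normalising an involution centraliser lies in it. -/
theorem invol_mem_cent {t i : G} (ht : orderOf t = 2) (hi : orderOf i = 2)
    (hN : i ∈ Subgroup.normalizer ((cent t : Subgroup G) : Set G)) : i ∈ cent t := by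
  have ht1 := CfsgLib.Invol.invol_ne_one ht
  have hy := (mem_normalizer_cent_iff hti hna ht1).mp hN
  have hyo := CfsgLib.Invol.invol_conj ht i
  have hc : Commute t (i * t * i⁻¹) := (mem_cent.mp hy).symm
  rw [CfsgLib.Invol.invol_inv hi] at hy hyo hc
  by_cases hz : t * (i * t * i) = 1
  · have h2 : i * t * i = t := by
      have := congrArg (fun w => t * w) hz
      simpa [← mul_assoc, CfsgLib.Invol.invol_mul_self ht] using this
    rw [mem_cent]
    show i * t = t * i
    have := congrArg (fun w => w * i) h2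
    simpa [mul_assoc, CfsgLib.Invol.invol_mul_self hi] using this
  · have hzA : t * (i * t * i) ∈ cent t := mul_mem (self_mem_cent t) hy
    refine cent_le hti hna ht hz hzA (mem_cent.2 ?_)
    show i * (t * (i * t * i)) = t * (i * t * i) * i
    have h1 : i * (t * (i * t * i)) = i * (i * t * i * t) := by rw [hc.eq]
    rw [h1]
    simp only [← mul_assoc, CfsgLib.Invol.invol_mul_self hi, one_mul]
    simp only [mul_assoc, CfsgLib.Invol.invol_mul_self hi, mul_one]

theorem exists_second_invol {t : G} (ht : orderOf t = 2) :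
    ∃ t' : G, orderOf t' = 2 ∧ t' ∈ cent t ∧ t' ≠ t := by
  by_contra hno
  push Not at hno
  have ht1 := CfsgLib.Invol.invol_ne_one ht
  have hN : ∀ g, g ∈ Subgroup.normalizer ((cent t : Subgroup G) : Set G) → g ∈ cent t := by
    intro g hg
    exact mem_cent.2 (mul_inv_eq_iff_eq_mul.mp (hno _ (CfsgLib.Invol.invol_conj ht g)
      ((mem_normalizer_cent_iff hti hna ht1).mp hg)))
  have hF : Cfsg.IsFrobeniusComplement (cent t) := by
    refine ⟨fun e => ht1 (Subgroup.mem_bot.1 (e ▸ self_mem_cent t)), fun e => ?_, fun g hg => ?_⟩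
    · exact not_normal_cent hna ht1 (by rw [e]; infer_instance)
    · rw [eq_bot_iff]
      rintro x ⟨hx, hx'⟩
      rw [Subgroup.mem_bot]
      by_contra hx1
      obtain ⟨y, hy, rfl⟩ := hx'
      simp only [MulDistribMulAction.toMonoidEnd_apply, MulDistribMulAction.toMonoidHom_apply,
        MulAut.smul_def, MulAut.conj_apply] at hx hx1
      exact hg (hN g (mem_nrm_of_conj hti (by simpa using hx1) hy hx))
  obtain ⟨N, -, hNn, hc, -⟩ := CfsgLib.Coprime.frob_kernel_data hF
  rcases hNn.eq_bot_or_eq_top with h | h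
  · subst h
    rw [Subgroup.isComplement'_bot_left] at hc
    exact hF.2.1 hc
  · subst h
    rw [Subgroup.isComplement'_top_left] at hc
    exact hF.1 hc

end Simple

end CfsgLib.TICent
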