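import Cfsg.Agent.Lib.Perm.CTSimple.Linear
import Cfsg.Agent.Lib.Invol.Basic

/-!
For odd `q ≥ 7` some involution centraliser of `PSL(2, q)` has a non-central involution.
-/

set_option autoImplicit false

namespace CfsgLib.TICent

open Matrix CfsgLib.CTSimple

variable {F : Type*} [Field F]

local notation "SL₂" => Matrix.SpecialLinearGroup (Fin 2) F
local notation "PSL₂" => Matrix.ProjectiveSpecialLinearGroup (Fin 2) F

theorem exists_witness [Fintype F] (hodd : Odd (Fintype.card F)) (h7 : 7 ≤ Fintype.card F) :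
    ∃ W R J : PSL₂, orderOf W = 2 ∧ orderOf J = 2 ∧ Commute R W ∧ Commute J W ∧
      ¬ Commute R J := by
  classical
  have h2 : (2 : F) ≠ 0 := by
    refine Ring.two_ne_zero fun h => ?_
    have := FiniteField.even_card_of_char_two h
    obtain ⟨k, hk⟩ := hodd
    omega
  obtain ⟨t, ht⟩ : ∃ t : F, t ≠ 0 ∧ t * t ≠ 1 ∧ t * t ≠ -1 := by
    by_contra h
    push Not at h
    have hsub : (Finset.univ : Finset F) ⊆ {0} ∪ (Polynomial.nthRoots 2 (1 : F)).toFinset ∪
        (Polynomial.nthRoots 2 (-1 : F)).toFinset := by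
      intro x _
      simp only [Finset.mem_union, Finset.mem_singleton, Multiset.mem_toFinset,
        Polynomial.mem_nthRoots (show 0 < 2 by norm_num), pow_two]
      by_cases h0 : x = 0
      · exact Or.inl (Or.inl h0)
      by_cases h1 : x * x = 1
      · exact Or.inl (Or.inr h1)
      · exact Or.inr (h x h0 h1)
    have hc := Finset.card_le_card hsub
    have h1 := (Multiset.toFinset_card_le _).trans (Polynomial.card_nthRoots 2 (1 : F))
    have h2 := (Multiset.toFinset_card_le _).trans (Polynomial.card_nthRoots 2 (-1 : F))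
    have h3 := (Finset.card_union_le ({0} ∪ (Polynomial.nthRoots 2 (1 : F)).toFinset)
      (Polynomial.nthRoots 2 (-1 : F)).toFinset)
    have h4 := Finset.card_union_le ({0} : Finset F) (Polynomial.nthRoots 2 (1 : F)).toFinset
    rw [Finset.card_univ] at hc
    rw [Finset.card_singleton] at h4
    omega
  obtain ⟨ht0, ht1, htm⟩ := ht
  have hd : (1 : F) + t * t ≠ 0 := fun h => htm (by linear_combination h)
  set a : F := (1 - t * t) / (1 + t * t) with ha
  set b : F := 2 * t / (1 + t * t) with hb
  have hab : a * a + b * b = 1 := by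
    rw [ha, hb, div_mul_div_comm, div_mul_div_comm, ← add_div,
      div_eq_one_iff_eq (mul_ne_zero hd hd)]
    ring
  have ha0 : a ≠ 0 := by
    rw [ha]
    exact div_ne_zero (sub_ne_zero.mpr (Ne.symm ht1)) hd
  have hb0 : b ≠ 0 := by
    rw [hb]
    exact div_ne_zero (mul_ne_zero h2 ht0) hd
  clear_value a b
  obtain ⟨x, y, hxy⟩ : ∃ x y : F, x * x + y * y = -1 := by
    obtain ⟨x, y, h⟩ := FiniteField.exists_root_sum_quadratic
      (f := (Polynomial.X : Polynomial F) ^ 2) (g := (Polynomial.X : Polynomial F) ^ 2 + Polynomial.C 1)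
      (Polynomial.degree_X_pow 2) (Polynomial.degree_X_pow_add_C (by norm_num) 1)
      (Nat.odd_iff.mp hodd)
    refine ⟨x, y, ?_⟩
    simp at h
    linear_combination h
  let W : SL₂ := ⟨!![0, 1; -1, 0], by rw [Matrix.det_fin_two_of]; ring⟩
  let R : SL₂ := ⟨!![a, b; -b, a], by rw [Matrix.det_fin_two_of]; linear_combination hab⟩
  let J : SL₂ := ⟨!![x, y; y, -x], by rw [Matrix.det_fin_two_of]; linear_combination -hxy⟩
  have hRW : Commute (QuotientGroup.mk R : PSL₂) (QuotientGroup.mk W) :=
    psl_commute_of_scalar (r := 1) (one_pow 2) (by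
      intro i j
      rw [sl_mul_val, sl_mul_val]
      fin_cases i <;> fin_cases j <;> simp [R, W, Matrix.mul_apply, Fin.sum_univ_two])
  have hWJ : Commute (QuotientGroup.mk W : PSL₂) (QuotientGroup.mk J) :=
    psl_commute_of_scalar (r := -1) (by ring) (by
      intro i j
      rw [sl_mul_val, sl_mul_val]
      fin_cases i <;> fin_cases j <;> simp [J, W, Matrix.mul_apply, Fin.sum_univ_two])
  have hR1 : (QuotientGroup.mk R : PSL₂) ≠ 1 := psl_mk_ne_one (Or.inl (by simpa [R] using hb0))
  have hW1 : (QuotientGroup.mk W : PSL₂) ≠ 1 := psl_mk_ne_one (Or.inl (by simp [W]))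
  have hJ1 : (QuotientGroup.mk J : PSL₂) ≠ 1 := by
    by_cases hy : y = 0
    · refine psl_mk_ne_one (Or.inr ?_)
      simp only [J]
      simp
      intro h
      have hx : x = 0 := by
        have : (2 : F) * x = 0 := by linear_combination h
        exact (mul_eq_zero.mp this).resolve_left h2
      rw [hx, hy] at hxy
      simp at hxy
    · exact psl_mk_ne_one (Or.inl (by simpa [J] using hy))
  have hsq : ∀ A : SL₂, (∀ i k, (A * A).1 i k = if i = k then -1 else 0) →
      (QuotientGroup.mk A : PSL₂) * QuotientGroup.mk A = 1 := by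
    intro A hA
    rw [← QuotientGroup.mk_mul, QuotientGroup.eq_one_iff, Matrix.SpecialLinearGroup.mem_center_iff]
    refine ⟨-1, by rw [Fintype.card_fin]; ring, ?_⟩
    ext i k
    rw [hA]
    by_cases h : i = k <;> simp [h]
  refine ⟨QuotientGroup.mk W, QuotientGroup.mk R, QuotientGroup.mk J,
    CfsgLib.Invol.invol_iff.mpr ⟨hsq W ?_, hW1⟩, CfsgLib.Invol.invol_iff.mpr ⟨hsq J ?_, hJ1⟩,
    hRW, hWJ.symm, fun hcom => ?_⟩
  · intro i k
    rw [sl_mul_val]
    fin_cases i <;> fin_cases k <;> simp [W, Matrix.mul_apply, Fin.sum_univ_two]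
  · intro i k
    rw [sl_mul_val]
    fin_cases i <;> fin_cases k <;> simp [J, Matrix.mul_apply, Fin.sum_univ_two] <;>
      first | linear_combination hxy | ring
  obtain ⟨r, hr, he⟩ := exists_scalar_of_psl_commute hcom
  have e00 := he 0 0
  have e01 := he 0 1
  rw [sl_mul_val, sl_mul_val] at e00 e01
  simp [R, J, Matrix.mul_apply, Fin.sum_univ_two] at e00 e01
  rcases sq_eq_one_iff.mp hr with hr | hr <;> subst hr
  · have h1 : (2 * b) * y = 0 := by linear_combination e00
    have h2' : (2 * b) * x = 0 := by linear_combination -e01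
    have h2b : 2 * b ≠ 0 := mul_ne_zero h2 hb0
    rw [(mul_eq_zero.mp h1).resolve_left h2b, (mul_eq_zero.mp h2').resolve_left h2b] at hxy
    simp at hxy
  · have h1 : (2 * a) * x = 0 := by linear_combination e00
    have h2' : (2 * a) * y = 0 := by linear_combination e01
    have h2a : 2 * a ≠ 0 := mul_ne_zero h2 ha0
    rw [(mul_eq_zero.mp h1).resolve_left h2a, (mul_eq_zero.mp h2').resolve_left h2a] at hxy
    simp at hxy

end CfsgLib.TICent
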