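import Cfsg.Agent.Lib.Perm.TICent.Action
import Cfsg.Agent.Lib.Perm.TICent.Linear
import Cfsg.Agent.Lib.Perm.SelfNormNonab.Converse
import Cfsg.Agent.Lib.Perm.Zassenhaus.OddDegree
import Cfsg.Agent.Lib.Classical.ProjLine
import Cfsg.Agent.S0340
import Cfsg.Agent.S0346
import Cfsg.Agent.S0731
import Cfsg.Agent.S0252
import Cfsg.Agent.S0253

/-!
Finite non-abelian simple groups in which all element centralisers are TI subsets are the groups
`PSL(2, 2^f)`.
-/

set_option autoImplicit false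
set_option linter.style.haveILetI false

namespace CfsgLib.TICent

open Subgroup CfsgLib.Invol MulAction

theorem eq_of_two_pow_mul_odd {s r u v : ℕ} (hu : Odd u) (hv : Odd v)
    (h : 2 ^ s * u = 2 ^ r * v) : s = r := by
  have h1 := congrArg (fun n => n.factorization 2) h
  have hu0 : u ≠ 0 := by rintro rfl; exact Nat.not_odd_zero hu
  have hv0 : v ≠ 0 := by rintro rfl; exact Nat.not_odd_zero hv
  simp only [Nat.factorization_mul (pow_ne_zero _ two_ne_zero) hu0,
    Nat.factorization_mul (pow_ne_zero _ two_ne_zero) hv0, Finsupp.add_apply,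
    Nat.Prime.factorization_pow Nat.prime_two, Finsupp.single_eq_same] at h1
  rw [Nat.factorization_eq_zero_of_not_dvd (fun h2 => by
      obtain ⟨a, ha⟩ := hu; obtain ⟨b, hb⟩ := h2; omega),
    Nat.factorization_eq_zero_of_not_dvd (fun h2 => by
      obtain ⟨a, ha⟩ := hv; obtain ⟨b, hb⟩ := h2; omega)] at h1
  omega

variable {G : Type*} [Group G] [Finite G] [IsSimpleGroup G]
  (hti : TIC G) (hna : ¬ IsMulCommutative G) {t : G} (ht : orderOf t = 2)
include hti hna ht

/-- The elements of square one of the involution centraliser. -/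
noncomputable def sqOne : Subgroup (cent t) where
  carrier := {y | y * y = 1}
  one_mem' := one_mul 1
  mul_mem' := by
    intro a b ha hb
    have hc : Commute b a := by
      by_cases hb1 : (b : G) = 1
      · rw [show b = 1 from Subtype.ext hb1]; exact Commute.one_left a
      · have hbo : orderOf (b : G) = 2 := invol_iff.mpr ⟨congrArg Subtype.val hb, hb1⟩
        exact Subtype.ext (invol_commute hti hna ht hbo b.2 a.2).symm.eq
    show a * b * (a * b) = 1
    rw [mul_assoc, ← mul_assoc b a, hc.eq, mul_assoc a b, hb, mul_one, ha]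
  inv_mem' := by
    intro a ha
    show a⁻¹ * a⁻¹ = 1
    rw [← mul_inv_rev, show a * a = 1 from ha, inv_one]

theorem card_sqOne : Nat.card (sqOne hti hna ht) = numInv t + 1 := by
  classical
  have e : Option {v : G // orderOf v = 2 ∧ v ∈ cent t} ≃ sqOne hti hna ht :=
    Equiv.ofBijective (fun o => o.elim (1 : sqOne hti hna ht)
      (fun v => ⟨⟨v, v.2.2⟩, Subtype.ext (invol_mul_self v.2.1)⟩)) (by
      constructor
      · rintro (- | v) (- | w) h
        · rfl
        · exact absurd (congrArg (fun z : sqOne hti hna ht => ((z : cent t) : G)) h).symm (invol_ne_one w.2.1)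
        · exact absurd (congrArg (fun z : sqOne hti hna ht => ((z : cent t) : G)) h) (invol_ne_one v.2.1)
        · exact congrArg some (Subtype.ext (congrArg (fun z : sqOne hti hna ht => ((z : cent t) : G)) h :))
      · rintro ⟨⟨y, hy⟩, hy2⟩
        by_cases h1 : y = 1
        · exact ⟨none, Subtype.ext (Subtype.ext h1.symm)⟩
        · exact ⟨some ⟨y, invol_iff.mpr ⟨congrArg Subtype.val hy2, h1⟩, hy⟩, rfl⟩)
  rw [← Nat.card_congr e, Finite.card_option, numInv]

theorem odd_numInv : Odd (numInv t) := by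
  have hdvd : orderOf (⟨t, self_mem_cent t⟩ : cent t) ∣ Nat.card (sqOne hti hna ht) :=
    Subgroup.orderOf_dvd_natCard _ (Subtype.ext (invol_mul_self ht))
  rw [Subgroup.orderOf_mk, ht, card_sqOne hti hna ht] at hdvd
  rw [Nat.odd_iff]
  omega

theorem three_le_numInv : 3 ≤ numInv t := by
  obtain ⟨j, hj⟩ := odd_numInv hti hna ht
  have := two_le_numInv hti ht hna
  omega

theorem sixty_le : 60 ≤ Nat.card G := by
  have hk := three_le_numInv hti hna ht
  have hle : numInv t + 1 ≤ Nat.card (cent t) := by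
    rw [← card_sqOne hti hna ht]
    exact Nat.le_of_dvd Nat.card_pos (Subgroup.card_subgroup_dvd_card _)
  rw [card_eq_prod hti ht hna]
  exact le_trans (by norm_num) (Nat.mul_le_mul (show 5 ≤ _ by omega)
    (Nat.mul_le_mul (show 4 ≤ _ by omega) hk))

theorem comm_cent_of_suzuki (hsz : Cfsg.IsSuzuki G) :
    IsMulCommutative (cent t) ∧ numInv t + 2 < Nat.card (cent t) + 1 := by
  classical
  haveI : Fintype (G ⧸ nrm t) := Fintype.ofFinite _
  obtain ⟨-, m, hm, hG⟩ := hsz
  set q := 2 ^ (2 * m + 1) with hq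
  have hq8 : 8 ≤ q := by
    calc 8 = 2 ^ 3 := by norm_num
      _ ≤ q := Nat.pow_le_pow_right two_pos (by omega)
  have hprod := card_eq_prod hti ht hna
  have hk := odd_numInv hti hna ht
  have heven : 2 ∣ Nat.card (cent t) := ht ▸ Subgroup.orderOf_dvd_natCard _ (self_mem_cent t)
  have hidx : Fintype.card (G ⧸ nrm t) = Nat.card (cent t) + 1 := by
    have hG' := hprod
    rw [← Subgroup.card_mul_index (nrm t), card_nrm hti ht hna, mul_comm] at hG'
    have := Nat.eq_of_mul_eq_mul_right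
      (Nat.mul_pos Nat.card_pos (by have := three_le_numInv hti hna ht; omega : 0 < numInv t)) hG'
    rwa [Subgroup.index, Nat.card_eq_fintype_card] at this
  have hpp := Cfsg.Agent.S0346.result (isZassenhaus hti ht hna)
  rw [hidx, Nat.add_sub_cancel] at hpp
  obtain ⟨p, s, hp, hs, hps⟩ := (isPrimePow_nat_iff _).1 hpp
  obtain rfl : p = 2 := ((Nat.prime_dvd_prime_iff_eq Nat.prime_two hp).1
    (Nat.prime_two.dvd_of_dvd_pow (hps ▸ heven))).symm
  have hoddL : Odd ((Nat.card (cent t) + 1) * numInv t) := by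
    refine Odd.mul ?_ hk
    obtain ⟨c, hc⟩ := heven
    exact ⟨c, by omega⟩
  have hqe : Even q := (Nat.even_pow.2 ⟨even_two, by omega⟩)
  have hoddR : Odd ((q ^ 2 + 1) * (q - 1)) := by
    refine Odd.mul ((hqe.pow_of_ne_zero two_ne_zero).add_one) ?_
    obtain ⟨c, hc⟩ := hqe
    exact ⟨c - 1, by omega⟩
  have e1 : 2 ^ s * ((Nat.card (cent t) + 1) * numInv t) =
      2 ^ (2 * (2 * m + 1)) * ((q ^ 2 + 1) * (q - 1)) := by
    rw [hps, show 2 ^ (2 * (2 * m + 1)) = q ^ 2 by rw [hq, ← pow_mul]; ring_nf]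
    calc _ = Nat.card G := by rw [hprod]; ring
      _ = _ := by rw [hG]; ring
  have hse := eq_of_two_pow_mul_odd hoddL hoddR e1
  have ha : Nat.card (cent t) = q ^ 2 := by rw [← hps, hse, hq, ← pow_mul]; ring_nf
  have hkq : numInv t = q - 1 := by
    rw [hse, ha] at e1
    exact Nat.eq_of_mul_eq_mul_left (Nat.succ_pos _)
      (Nat.eq_of_mul_eq_mul_left (pow_pos two_pos _) e1)
  set E := sqOne hti hna ht with hE
  have hcE : Nat.card E = q := by rw [hE, card_sqOne hti hna ht, hkq]; omega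
  have hEc : ∀ e ∈ E, ∀ y : cent t, Commute y e := by
    intro e he y
    by_cases he1 : (e : G) = 1
    · rw [show e = 1 from Subtype.ext he1]; exact Commute.one_right y
    · exact Subtype.ext (invol_commute hti hna ht
        (invol_iff.mpr ⟨congrArg Subtype.val (show e * e = 1 from he), he1⟩) e.2 y.2).eq
  haveI hEn : E.Normal := ⟨fun e he y => by rw [(hEc e he y).eq, mul_inv_cancel_right]; exact he⟩
  have hcQ : Nat.card (cent t ⧸ E) = q := by
    have h := Subgroup.card_eq_card_quotient_mul_card_subgroup E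
    rw [ha, hcE, pow_two] at h
    exact (Nat.eq_of_mul_eq_mul_right (by omega) h).symm
  obtain ⟨g, hg⟩ : ∃ g, g ∉ nrm t := by
    by_contra h
    push Not at h
    exact not_normal_nrm hti ht hna ((Subgroup.eq_top_iff' _).mpr h)
  obtain ⟨v, hv, hvN, -, hcd, -⟩ := exists_coset_invol hti ht hna hg
  refine ⟨⟨⟨fun y z => ?_⟩⟩, by
    rw [ha, hkq, pow_two]
    have := Nat.mul_le_mul hq8 (le_refl q)
    omega⟩
  by_cases hy : y ∈ E
  · exact (hEc y hy z).symm.eq
  by_cases hz : z ∈ E
  · exact (hEc z hz y).eq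
  -- the conjugates of `y` under the two-point stabiliser
  let cj : dsub t v → cent t := fun d => ⟨(d : G) * y * (d : G)⁻¹,
    (Subgroup.mem_normalizer_iff.1 (mem_dsub.1 d.2).1 (y : G)).1 y.2⟩
  have hcj : ∀ d, cj d ∉ E := by
    intro d h
    apply hy
    have h' : (d : G) * y * (d : G)⁻¹ * ((d : G) * y * (d : G)⁻¹) = 1 := congrArg Subtype.val h
    refine Subtype.ext ?_
    show (y : G) * y = 1
    have := congrArg (fun w => (d : G)⁻¹ * w * d) h'
    simpa [mul_assoc] using this
  let f : dsub t v → {c : cent t ⧸ E // c ≠ 1} :=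
    fun d => ⟨QuotientGroup.mk (cj d), fun h => hcj d ((QuotientGroup.eq_one_iff _).1 h)⟩
  have hfinj : Function.Injective f := by
    intro d d' hdd
    have hrel := QuotientGroup.eq.1 (congrArg Subtype.val hdd)
    by_contra hne
    have hh : (d : G)⁻¹ * d' ∈ dsub t v := mul_mem (inv_mem d.2) d'.2
    set h : G := (d : G)⁻¹ * d' with hhdef
    have hh1 : h ≠ 1 := fun e => hne (Subtype.ext (inv_mul_eq_one.1 e))
    have hhN := (mem_dsub.1 hh).1
    have hnot : h ∉ cent t := fun hc => hh1 (dsub_inf_cent hti ht hna hv hvN hh hc)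
    let cd : (d : G) ∈ nrm t := (mem_dsub.1 d.2).1
    have hsqc : ∀ {n : G}, n ∈ nrm t → ∀ {a : cent t}, a ∈ E →
        n * (a : G) * n⁻¹ ∈ cent t ∧ (n * (a : G) * n⁻¹) * (n * (a : G) * n⁻¹) = 1 := by
      intro n hn a ha
      refine ⟨(Subgroup.mem_normalizer_iff.1 hn (a : G)).1 a.2, ?_⟩
      have h2 : (a : G) * a = 1 := congrArg Subtype.val (show a * a = 1 from ha)
      calc _ = n * ((a : G) * a) * n⁻¹ := by group
        _ = 1 := by rw [h2, mul_one, mul_inv_cancel]
    -- `y⁻¹ (h y h⁻¹) ∈ E`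
    obtain ⟨e, heE, he⟩ : ∃ e : cent t, e ∈ E ∧ (e : G) = (y : G)⁻¹ * (h * y * h⁻¹) := by
      have hm := hsqc (inv_mem cd) hrel
      refine ⟨⟨_, hm.1⟩, Subtype.ext hm.2, ?_⟩
      simp only [Subgroup.coe_mul, Subgroup.coe_inv, cj, hhdef]
      group
    let ψ : E → E := fun w => ⟨(w : cent t) * ⟨h * ((w : cent t) : G)⁻¹ * h⁻¹,
        (Subgroup.mem_normalizer_iff.1 hhN _).1 (inv_mem (w : cent t).2)⟩,
      E.mul_mem w.2 (by
        have := hsqc hhN (E.inv_mem w.2)
        exact Subtype.ext this.2)⟩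
    have hψ : Function.Injective ψ := by
      intro w w' hww
      have h2 : ((w : cent t) : G) * (h * ((w : cent t) : G)⁻¹ * h⁻¹) =
          ((w' : cent t) : G) * (h * ((w' : cent t) : G)⁻¹ * h⁻¹) :=
        congrArg (fun z : sqOne hti hna ht => ((z : cent t) : G)) hww
      by_contra hne'
      have hu1 : ((w' : cent t) : G)⁻¹ * (w : cent t) ≠ 1 := fun e' =>
        hne' (Subtype.ext (Subtype.ext (inv_mul_eq_one.1 e').symm))
      refine hnot (cent_le hti hna ht hu1 (mul_mem (inv_mem (w' : cent t).2) (w : cent t).2)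
        (mem_cent.2 ?_))
      show h * (((w' : cent t) : G)⁻¹ * (w : cent t)) =
        ((w' : cent t) : G)⁻¹ * (w : cent t) * h
      have h3 := congrArg (fun x => ((w' : cent t) : G)⁻¹ * x * h * ((w : cent t) : G)) h2
      simpa [mul_assoc] using h3.symm
    obtain ⟨w, hw⟩ := (Finite.injective_iff_surjective.1 hψ) ⟨e, heE⟩
    have hw' : ((w : cent t) : G) * (h * ((w : cent t) : G)⁻¹ * h⁻¹) = (e : G) :=
      congrArg (fun z : sqOne hti hna ht => ((z : cent t) : G)) hw
    have hu1 : (y : G) * (w : cent t) ≠ 1 := by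
      intro e'
      apply hy
      have : y = (w : cent t)⁻¹ := Subtype.ext (eq_inv_of_mul_eq_one_left e')
      rw [this]
      exact E.inv_mem w.2
    refine hnot (cent_le hti hna ht hu1 (mul_mem y.2 (w : cent t).2) (mem_cent.2 ?_))
    show h * ((y : G) * (w : cent t)) = (y : G) * (w : cent t) * h
    have h3 := congrArg (fun x => (y : G) * x * h * ((w : cent t) : G)) (hw'.trans he)
    simpa [mul_assoc] using h3.symm
  have hfb : Function.Bijective f := (Nat.bijective_iff_injective_and_card _).2 ⟨hfinj, by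
    haveI : Fintype (cent t ⧸ E) := Fintype.ofFinite _
    have hc1 : Fintype.card (cent t ⧸ E) = q := by rw [← Nat.card_eq_fintype_card, hcQ]
    rw [hcd, hkq, Nat.card_eq_fintype_card, Fintype.card_subtype_compl, Fintype.card_subtype_eq, hc1]⟩
  obtain ⟨d, hd⟩ := hfb.surjective
    ⟨QuotientGroup.mk z, fun h => hz ((QuotientGroup.eq_one_iff _).1 h)⟩
  have hd' : (cj d)⁻¹ * z ∈ E := QuotientGroup.eq.1 (congrArg Subtype.val hd)
  have hdN := (mem_dsub.1 d.2).1
  have hyne : (y : G) ≠ 1 := fun e => hy (by rw [show y = 1 from Subtype.ext e]; exact E.one_mem)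
  have hty : t ∈ cent (y : G) := mem_cent.2 (mem_cent.1 y.2).symm
  have hnY : (d : G) ∈ Subgroup.normalizer ((cent (y : G) : Subgroup G) : Set G) := by
    refine mem_nrm_of_conj hti (invol_ne_one ht) hty (mem_cent.2 ?_)
    exact (invol_commute hti hna ht (invol_conj ht _)
      ((mem_normalizer_cent_iff hti hna (invol_ne_one ht)).1 hdN) y.2).symm
  have hcyd : Commute y (cj d) :=
    Subtype.ext (mem_cent.1 ((mem_normalizer_cent_iff hti hna hyne).1 hnY)).symm.eq
  have hfin := hcyd.mul_right (hEc _ hd' y)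
  rw [mul_inv_cancel_left] at hfin
  exact hfin.eq

theorem exists_psl_any : ∃ (F : Type) (_ : Field F) (_ : Fintype F),
    Nonempty (G ≃* Matrix.ProjectiveSpecialLinearGroup (Fin 2) F) := by
  classical
  haveI : Fintype (G ⧸ nrm t) := Fintype.ofFinite _
  have hZ := isZassenhaus hti ht hna
  rcases Cfsg.Agent.S0340.result hZ with h | hsz
  · exact h
  obtain ⟨hab, hlt⟩ := comm_cent_of_suzuki hti hna ht hsz
  set o : G ⧸ nrm t := ((1 : G) : G ⧸ nrm t) with ho
  have hstab : stabilizer G o = nrm t := by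
    ext x
    rw [mem_stabilizer_iff, ho, smul_base_eq_iff, inv_one, one_mul, mul_one]
  have hbase : ∀ x : G ⧸ nrm t, x ≠ o → ∃ w : G, w ∉ nrm t ∧ x = (w : G ⧸ nrm t) := by
    intro x hx
    obtain ⟨w, rfl⟩ := QuotientGroup.mk_surjective x
    refine ⟨w, fun h => hx ?_, rfl⟩
    rw [ho, QuotientGroup.eq, mul_one]
    exact inv_mem h
  have hle : cent t ≤ stabilizer G o := hstab.ge.trans' Subgroup.le_normalizer
  have hn : ((cent t).subgroupOf (stabilizer G o)).Normal := by
    constructor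
    intro u hu g
    rw [Subgroup.mem_subgroupOf] at hu ⊢
    have hg : (g : G) ∈ nrm t := hstab.le g.2
    simpa using (Subgroup.mem_normalizer_iff.mp hg (u : G)).mp hu
  have hreg : ∀ y z : G ⧸ nrm t, y ≠ o → z ≠ o → ∃! u : cent t, (u : G) • y = z := by
    intro y z hy hz
    obtain ⟨v, hv, rfl⟩ := hbase y hy
    obtain ⟨w, hw, rfl⟩ := hbase z hz
    exact exists_unique_cent hti ht hna hv hw
  rcases Cfsg.Agent.S0731.result hZ o (cent t) hle hn hab hreg with ⟨h3, -⟩ | ⟨K, iK, iK', -, h⟩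
  swap
  · exact ⟨K, iK, iK', h⟩
  exfalso
  obtain ⟨g, hg⟩ : ∃ g, g ∉ nrm t := by
    by_contra h
    push Not at h
    exact not_normal_nrm hti ht hna ((Subgroup.eq_top_iff' _).mpr h)
  set p : G ⧸ nrm t := (g : G ⧸ nrm t) with hp
  have hpo : p ≠ o := by
    rw [hp, ho, Ne, QuotientGroup.eq, mul_one, inv_mem_iff]
    exact hg
  have hidx : Fintype.card (G ⧸ nrm t) = Nat.card (cent t) + 1 := by
    have hG := card_eq_prod hti ht hna
    rw [← Subgroup.card_mul_index (nrm t), card_nrm hti ht hna, mul_comm] at hG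
    have := Nat.eq_of_mul_eq_mul_right
      (Nat.mul_pos Nat.card_pos (by have := three_le_numInv hti hna ht; omega : 0 < numInv t)) hG
    rwa [Subgroup.index, Nat.card_eq_fintype_card] at this
  have hfilter : Nat.card {x : G ⧸ nrm t // x ≠ o ∧ x ≠ p} + 2 = Fintype.card (G ⧸ nrm t) := by
    rw [Nat.card_eq_fintype_card, Fintype.card_subtype]
    have : (Finset.univ.filter fun x : G ⧸ nrm t => x ≠ o ∧ x ≠ p) = Finset.univ \ {o, p} := by
      ext x; simp [not_or]
    rw [this, Finset.card_univ_diff, Finset.card_pair hpo.symm]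
    have : 2 ≤ Fintype.card (G ⧸ nrm t) := by
      rw [← Finset.card_pair hpo.symm]; exact Finset.card_le_univ _
    omega
  haveI : Nonempty {x : G ⧸ nrm t // x ≠ o ∧ x ≠ p} :=
    (Finite.card_pos_iff).1 (by omega)
  obtain ⟨⟨x₀, hx₀o, hx₀p⟩⟩ := (inferInstance : Nonempty {x : G ⧸ nrm t // x ≠ o ∧ x ≠ p})
  have hfix : ∀ d : ↥(stabilizer G o ⊓ stabilizer G p),
      (d : G) • x₀ ≠ o ∧ (d : G) • x₀ ≠ p := fun d =>
    ⟨fun h => hx₀o (MulAction.injective (d : G) (h.trans (Subgroup.mem_inf.mp d.2).1.symm)),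
     fun h => hx₀p (MulAction.injective (d : G) (h.trans (Subgroup.mem_inf.mp d.2).2.symm))⟩
  have hsurj : Function.Surjective (fun d : ↥(stabilizer G o ⊓ stabilizer G p) =>
      (⟨(d : G) • x₀, hfix d⟩ : {x : G ⧸ nrm t // x ≠ o ∧ x ≠ p})) := by
    rintro ⟨x, hxo, hxp⟩
    obtain ⟨e₁, a0, a1, a2⟩ := CfsgLib.Perm.ZOdd.exists_emb hpo.symm hx₀o.symm hx₀p.symm
    obtain ⟨e₂, b0, b1, b2⟩ := CfsgLib.Perm.ZOdd.exists_emb hpo.symm hxo.symm hxp.symm
    obtain ⟨d, hd⟩ := h3.exists_smul_eq e₁ e₂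
    have hdi : ∀ i, d • e₁ i = e₂ i := fun i =>
      congrArg (fun e : Fin 3 ↪ G ⧸ nrm t => e i) hd
    refine ⟨⟨d, Subgroup.mem_inf.mpr ⟨?_, ?_⟩⟩, Subtype.ext ?_⟩
    · show d • o = o
      rw [← a0, hdi, b0, a0]
    · show d • p = p
      rw [← a1, hdi, b1, a1]
    · show d • x₀ = x
      rw [← a2, hdi, b2]
  have h1 := Nat.card_le_card_of_surjective _ hsurj
  rw [card_stab_pair hti ht hna hg] at h1
  omega

omit ht in
/-- A simple group with TI element centralisers is `PSL(2, 2^f)`. -/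
theorem exists_psl : ∃ f : ℕ, 2 ≤ f ∧
    Nonempty (G ≃* Matrix.ProjectiveSpecialLinearGroup (Fin 2) (GaloisField 2 f)) := by
  obtain ⟨t, ht⟩ := exists_invol hti hna
  obtain ⟨F, iF, iF', ⟨e⟩⟩ := exists_psl_any hti hna ht
  have h60 := sixty_le hti hna ht
  rw [Nat.card_congr e.toEquiv] at h60
  have hc := CfsgLib.Classical.card_psl2 (F := F)
  have hq6 : ¬ Fintype.card F ≤ 3 := by
    intro h
    have hg : 1 ≤ Nat.gcd 2 (Fintype.card F - 1) := Nat.gcd_pos_of_pos_left _ (by norm_num)
    have h1 : Nat.card (Matrix.ProjectiveSpecialLinearGroup (Fin 2) F) ≤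
        Fintype.card F * ((Fintype.card F - 1) * (Fintype.card F + 1)) :=
      hc ▸ Nat.le_mul_of_pos_left _ hg
    interval_cases (Fintype.card F) <;> omega
  obtain ⟨p, n, hp, hn, hpn⟩ := (isPrimePow_nat_iff _).1
    (FiniteField.isPrimePow_card F)
  by_cases hp2 : p = 2
  · subst hp2
    have hf2 : 2 ≤ n := by
      by_contra h
      have : n = 1 := by omega
      subst this
      omega
    refine ⟨n, hf2, ⟨e.trans ?_⟩⟩
    letI := Fintype.ofFinite (GaloisField 2 n)
    exact CfsgLib.SelfNormNonab.pslCongr (FiniteField.ringEquivOfCardEq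
      (by rw [← hpn, ← Nat.card_eq_fintype_card (α := GaloisField 2 n), GaloisField.card 2 n (by omega)]))
  have hodd : Odd (Fintype.card F) := hpn ▸ (hp.odd_of_ne_two hp2).pow
  by_cases h7 : 7 ≤ Fintype.card F
  · exfalso
    obtain ⟨W, R, J, hW, hJ, hRW, hJW, hRJ⟩ := exists_witness hodd h7
    apply hRJ
    have hW' : orderOf (e.symm W) = 2 := by rw [MulEquiv.orderOf_eq, hW]
    have hJ' : orderOf (e.symm J) = 2 := by rw [MulEquiv.orderOf_eq, hJ]
    have := (invol_commute hti hna hW' hJ' (mem_cent.2 (hJW.map e.symm))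
      (mem_cent.2 (hRW.map e.symm))).map e
    simpa using this
  · have h5 : Fintype.card F = 5 := by obtain ⟨c, hc⟩ := hodd; omega
    letI := Fintype.ofFinite (GaloisField 2 2)
    obtain ⟨e5⟩ := Cfsg.Agent.S0253.result (F := F) h5
    obtain ⟨e4⟩ := Cfsg.Agent.S0252.result (F := GaloisField 2 2)
      (by rw [← Nat.card_eq_fintype_card, GaloisField.card 2 2 (by norm_num)]; norm_num)
    exact ⟨2, le_rfl, ⟨(e.trans e5).trans e4.symm⟩⟩

end CfsgLib.TICent
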