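import Cfsg.Agent.Lib.Perm.TICent.Action
import Cfsg.Agent.Lib.Char.FrobeniusFormula
import Cfsg.Agent.S1473

/-!
A non-solvable group with TI element centralisers is simple.
-/

set_option autoImplicit false
set_option linter.style.haveILetI false

namespace CfsgLib.TICent

open Subgroup

universe u

variable {G : Type u} [Group G] [Finite G]

theorem no_abelian_normal (hti : TIC G) (hns : ¬ Group.IsSolvable G) (A : Subgroup G) [A.Normal]
    (hab : ∀ a ∈ A, ∀ b ∈ A, a * b = b * a) : A = ⊥ := by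
  classical
  by_contra hA
  obtain ⟨a, ha, ha1⟩ := (Subgroup.bot_or_exists_ne_one A).resolve_left hA
  haveI : Nonempty {v : G // v ∈ A ∧ v ≠ 1} := ⟨⟨a, ha, ha1⟩⟩
  obtain ⟨⟨v, hv, hv1⟩, hmax⟩ :=
    Finite.exists_max (fun v : {v : G // v ∈ A ∧ v ≠ 1} => Nat.card (cent (v : G)))
  set C := cent v with hC
  haveI hCn : C.Normal := ⟨fun n hn g => (Subgroup.mem_normalizer_iff.1
    (mem_nrm_of_conj hti hv1 (self_mem_cent v)
      (mem_cent.2 (hab _ ((inferInstance : A.Normal).conj_mem v hv g) v hv))) n).1 hn⟩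
  haveI hCnil : Group.IsNilpotent C := isCN hti v hv1
  have hCsol : Group.IsSolvable C := inferInstance
  have hQ : Cfsg.IsCNGroup (G ⧸ C) := Cfsg.Agent.S1473.result (isCN hti) C hCsol
  have hnsQ : ¬ Group.IsSolvable (G ⧸ C) := fun h => hns <| by
    rw [Group.isSolvable_iff_subgroup_quotient C]
    exact ⟨hCsol, h⟩
  rcases Nat.even_or_odd (Nat.card (G ⧸ C)) with heven | hodd
  swap
  · exact hnsQ (CfsgLib.Char.isSolvable_of_cn_odd hodd hQ)
  haveI : Fact (Nat.Prime 2) := ⟨Nat.prime_two⟩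
  obtain ⟨q, hq⟩ := exists_prime_orderOf_dvd_card' (G := G ⧸ C) 2 (even_iff_two_dvd.1 heven)
  obtain ⟨i, rfl⟩ := QuotientGroup.mk_surjective q
  have hi2 : i * i ∈ C := by
    rw [← QuotientGroup.eq_one_iff, QuotientGroup.mk_mul, ← pow_two, ← hq, pow_orderOf_eq_one]
  have hiC : i ∉ C := fun h => by
    rw [(QuotientGroup.eq_one_iff i).2 h, orderOf_one] at hq
    omega
  have key : ∀ j, j ∉ C → j * j ∈ C → j * v * j⁻¹ = v⁻¹ := by
    intro j hj hj2
    set v1 := v * (j * v * j⁻¹) with hv1def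
    by_cases h1 : v1 = 1
    · exact (eq_inv_of_mul_eq_one_right h1)
    exfalso
    have hA1 : v1 ∈ A := A.mul_mem hv ((inferInstance : A.Normal).conj_mem v hv j)
    have hjv : Commute j v1 := by
      have e1 : j * v1 * j⁻¹ = (j * v * j⁻¹) * ((j * j) * v * (j * j)⁻¹) := by
        rw [hv1def]; group
      have e2 : (j * j) * v * (j * j)⁻¹ = v := by
        rw [(mem_cent.1 hj2).eq, mul_inv_cancel_right]
      rw [e2, hab _ ((inferInstance : A.Normal).conj_mem v hv j) v hv, ← hv1def,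
        mul_inv_eq_iff_eq_mul] at e1
      exact e1
    have hle : C ≤ cent v1 := by
      intro c hc
      have hc' : j⁻¹ * c * j ∈ C := by simpa using hCn.conj_mem c hc j⁻¹
      have hcv : c ∈ cent (j * v * j⁻¹) := mem_cent_conj.2 hc'
      exact mem_cent.2 ((mem_cent.1 hc).mul_right (mem_cent.1 hcv))
    have heq : C = cent v1 := Subgroup.eq_of_le_of_card_ge hle (hmax ⟨v1, hA1, h1⟩)
    exact hj (heq ▸ mem_cent.2 hjv)
  have hcentral : ∀ g : G ⧸ C, Commute g (i : G ⧸ C) := by
    intro g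
    obtain ⟨g, rfl⟩ := QuotientGroup.mk_surjective g
    set j := g * i * g⁻¹ with hj
    have hjC : j ∉ C := fun h => hiC (by
      have := hCn.conj_mem j h g⁻¹
      simpa [hj, mul_assoc] using this)
    have hj2 : j * j ∈ C := by
      have := hCn.conj_mem _ hi2 g
      simpa [hj, mul_assoc] using this
    have hij : i * j ∈ C := by
      refine mem_cent.2 (mul_inv_eq_iff_eq_mul.1 ?_)
      calc i * j * v * (i * j)⁻¹ = i * (j * v * j⁻¹) * i⁻¹ := by group
        _ = (i * v * i⁻¹)⁻¹ := by rw [key j hjC hj2]; group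
        _ = v := by rw [key i hiC hi2, inv_inv]
    have h1 : (i : G ⧸ C) * ((g : G ⧸ C) * i * (g : G ⧸ C)⁻¹) = 1 := by
      rw [← QuotientGroup.mk_mul, ← QuotientGroup.mk_inv, ← QuotientGroup.mk_mul,
        ← QuotientGroup.mk_mul, QuotientGroup.eq_one_iff]
      exact hij
    have h2 : (i : G ⧸ C) * i = 1 := by rw [← pow_two, ← hq, pow_orderOf_eq_one]
    exact mul_inv_eq_iff_eq_mul.1 (mul_left_cancel (h1.trans h2.symm))
  refine hnsQ ?_
  have hne : (i : G ⧸ C) ≠ 1 := fun h => hiC ((QuotientGroup.eq_one_iff i).1 h)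
  haveI := hQ _ hne
  have htop : Subgroup.centralizer ({(i : G ⧸ C)} : Set (G ⧸ C)) = ⊤ :=
    (Subgroup.eq_top_iff' _).2 fun g => Subgroup.mem_centralizer_singleton_iff.2 (hcentral g).eq
  haveI : Group.IsNilpotent (G ⧸ C) :=
    Group.nilpotent_of_mulEquiv ((MulEquiv.subgroupCongr htop).trans Subgroup.topEquiv)
  infer_instance

/-- The centraliser of an involution of a normal simple subgroup lies in that subgroup. -/
theorem cent_le_normal (hti : TIC G) (M : Subgroup G) [M.Normal] [IsSimpleGroup M]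
    (hna : ¬ IsMulCommutative M) {t : M} (ht : orderOf t = 2) : cent (t : G) ≤ M := by
  classical
  have htiM := tic_subgroup hti M
  have htG : orderOf (t : G) = 2 := by rw [Subgroup.orderOf_coe, ht]
  have htne := CfsgLib.Invol.invol_ne_one htG
  obtain ⟨g, hg⟩ : ∃ g, g ∉ nrm t := by
    by_contra h
    push Not at h
    exact not_normal_nrm htiM ht hna ((Subgroup.eq_top_iff' _).mpr h)
  obtain ⟨v, hv, hvN, -, hcard, -⟩ := exists_coset_invol htiM ht hna hg
  have hk := two_le_numInv htiM ht hna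
  obtain ⟨p, hp, hpk⟩ := Nat.exists_prime_and_dvd (n := numInv t) (by omega)
  have hp2 : p ≠ 2 := by
    rintro rfl
    obtain ⟨d, hd⟩ := exists_prime_orderOf_dvd_card' (G := dsub t v) 2 (hcard ▸ hpk)
    have hd2 : orderOf (d : M) = 2 := by rw [Subgroup.orderOf_coe, hd]
    exact CfsgLib.Invol.invol_ne_one hd2 (dsub_inf_cent htiM ht hna hv hvN d.2
      (invol_mem_cent htiM hna ht hd2 (mem_dsub.1 d.2).1))
  haveI : Fact p.Prime := ⟨hp⟩
  obtain ⟨d, hd⟩ := exists_prime_orderOf_dvd_card' (G := dsub t v) p (hcard ▸ hpk)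
  set w : G := ((d : M) : G) with hw
  have hwo : orderOf w = p := by rw [hw, Subgroup.orderOf_coe, Subgroup.orderOf_coe, hd]
  have hd1 : (d : M) ≠ 1 := fun h => by
    rw [← Subgroup.orderOf_coe, h, orderOf_one] at hd
    exact hp.ne_one hd.symm
  have hwt : ¬ Commute w (t : G) := fun h => hd1
    (dsub_inf_cent htiM ht hna hv hvN d.2 (mem_cent.2 (Subtype.ext h.eq)))
  have hwN : w ∈ Subgroup.normalizer ((cent (t : G) : Subgroup G) : Set G) := by
    refine mem_nrm_of_conj hti htne (self_mem_cent _) ?_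
    have h := (mem_normalizer_cent_iff htiM hna (CfsgLib.Invol.invol_ne_one ht)).1 (mem_dsub.1 d.2).1
    exact mem_cent.2 (congrArg Subtype.val (mem_cent.1 h).eq)
  let f : cent (t : G) → cent t := fun c =>
    ⟨⟨(c : G) * w * (c : G)⁻¹ * w⁻¹,
      M.mul_mem ((inferInstance : M.Normal).conj_mem w (d : M).2 c) (M.inv_mem (d : M).2)⟩,
      mem_cent.2 (Subtype.ext (mem_cent.1 (show (c : G) * w * (c : G)⁻¹ * w⁻¹ ∈ cent (t : G) by
        rw [show (c : G) * w * (c : G)⁻¹ * w⁻¹ = (c : G) * (w * (c : G)⁻¹ * w⁻¹) by group]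
        exact mul_mem c.2 ((Subgroup.mem_normalizer_iff.1 hwN _).1 (inv_mem c.2)))).eq)⟩
  have hf : Function.Injective f := by
    intro c c' h
    have h' : (c : G) * w * (c : G)⁻¹ * w⁻¹ = (c' : G) * w * (c' : G)⁻¹ * w⁻¹ :=
      congrArg (fun z : cent t => ((z : M) : G)) h
    by_contra hne
    have hu1 : (c' : G)⁻¹ * c ≠ 1 := fun e => hne (Subtype.ext (inv_mul_eq_one.1 e).symm)
    have hcw : Commute w ((c' : G)⁻¹ * c) := by
      have h2 := congrArg (fun x => (c' : G)⁻¹ * x * w * (c : G)) h'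
      simp [mul_assoc] at h2
      show w * ((c' : G)⁻¹ * c) = (c' : G)⁻¹ * c * w
      rw [mul_assoc, h2]
    refine hwt (commute_invol hti hu1 hcw ?_ htG (hwo ▸ hp.odd_of_ne_two hp2))
    exact (mem_cent.1 (mul_mem (inv_mem c'.2) c.2)).symm
  have hcle := Nat.card_le_card_of_injective f hf
  have hmap : (cent t).map M.subtype ≤ cent (t : G) := by
    rintro _ ⟨y, hy, rfl⟩
    exact mem_cent.2 (congrArg Subtype.val (mem_cent.1 hy).eq)
  rw [← Subgroup.eq_of_le_of_card_ge hmap
    (by rwa [Subgroup.card_map_of_injective M.subtype_injective])]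
  exact Subgroup.map_subtype_le _

/-- A non-solvable group with TI element centralisers is simple. -/
theorem isSimpleGroup_of_not_solvable {G : Type u} [Group G] [Finite G] (hti : TIC G)
    (hns : ¬ Group.IsSolvable G) : IsSimpleGroup G := by
  classical
  induction hn : Nat.card G using Nat.strong_induction_on generalizing G with
  | _ n ih =>
  subst hn
  haveI : Nontrivial G := not_subsingleton_iff_nontrivial.1 fun h =>
    hns (Group.isSolvable_of_comm fun a b => Subsingleton.elim _ _)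
  by_contra hsimp
  obtain ⟨M, hMn, hMb, hMt⟩ : ∃ N : Subgroup G, N.Normal ∧ N ≠ ⊥ ∧ N ≠ ⊤ := by
    by_contra! h
    exact hsimp ⟨fun N hN => (eq_or_ne N ⊥).imp id (h N hN)⟩
  haveI := hMn
  have hMns : ¬ Group.IsSolvable M := by
    intro hs
    obtain ⟨A, p, hAn, -, -, hAb, hAc, -⟩ := CfsgLib.Char.exists_normal_elementary_le M hMb hs
    haveI := hAn
    exact hAb (no_abelian_normal hti hns A hAc)
  haveI : IsSimpleGroup M := ih (Nat.card M) (lt_of_le_of_ne
    (Nat.le_of_dvd Nat.card_pos (Subgroup.card_subgroup_dvd_card _))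
    fun h => hMt (Subgroup.eq_top_of_card_eq M h)) (tic_subgroup hti M) hMns rfl
  have hna : ¬ IsMulCommutative M := fun h => hMns (Group.isSolvable_of_comm fun a b => h.is_comm.comm a b)
  obtain ⟨t, ht⟩ := exists_invol (tic_subgroup hti M) hna
  refine hMt ((Subgroup.eq_top_iff' _).2 fun g => ?_)
  have hmem : g * (t : G) * g⁻¹ ∈ M := hMn.conj_mem _ t.2 g
  have hord : orderOf (⟨_, hmem⟩ : M) = 2 := by
    rw [Subgroup.orderOf_mk]
    exact CfsgLib.Invol.invol_conj (by rw [Subgroup.orderOf_coe, ht]) g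
  obtain ⟨m, hm⟩ := isConj_iff.1 (isConj_invol (tic_subgroup hti M) hna ht hord)
  have hm' : (m : G) * t * (m : G)⁻¹ = g * t * g⁻¹ := congrArg Subtype.val hm
  have hc : (m : G)⁻¹ * g ∈ cent (t : G) := by
    refine mem_cent.2 (mul_inv_eq_iff_eq_mul.1 ?_)
    calc (m : G)⁻¹ * g * t * ((m : G)⁻¹ * g)⁻¹ = (m : G)⁻¹ * (g * t * g⁻¹) * m := by group
      _ = t := by rw [← hm']; group
  have := M.mul_mem m.2 (cent_le_normal hti M hna ht hc)
  rwa [mul_inv_cancel_left] at this

end CfsgLib.TICent
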